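import Groth.Agent.NormPush7.Ess
import Groth.Agent.TFQuot7.Quot
import Groth.Agent.HilbPoly.Sat
import Groth.Agent.IntNum.Push
import Groth.Agent.ExtShX.ProjNat
import Groth.Agent.Lib.CurveDeg

/-! Semistability of direct images along finite birational maps of integral curves. -/

set_option autoImplicit false
set_option linter.style.haveILetI false
set_option linter.unusedSectionVars false
set_option backward.isDefEq.respectTransparency false
set_option backward.isDefEq.respectTransparency.types false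
set_option maxHeartbeats 1000000

universe u

noncomputable section

open CategoryTheory CategoryTheory.Limits AlgebraicGeometry TopologicalSpace Opposite
open scoped Polynomial
open StabCat

namespace Groth.Agent.StabPush7

open Groth.Agent Groth.Agent.HilbPoly

set_option synthInstance.maxHeartbeats 200000

section pure

variable {X : Scheme.{u}} [IsIntegral X] [IsLocallyNoetherian X]

theorem generic_nontrivial {M : X.Modules} (hM : TFQuot7.Det M) (h0 : ¬ IsZero M) :
    ¬ Subsingleton (M.presheaf.stalk (genericPoint X)) := fun h =>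
  h0 (hM.isZero fun y hy => CurvFree7.eq_genericPoint hy ▸ h)

theorem isPure (hdim : topologicalKrullDim X = 1) {E : X.Modules} (hE : TFQuot7.Det E) : ShStab.IsPure X E 1 := by
  intro F ι hι hF h0
  have hcl := QCoh.isClosed_support_of_isFT hF.1 (QCoh.isFT_of_isFP (QCoh.isCoh_iff_isFP.1 hF))
  have hη : genericPoint X ∈ CohB1.support F := generic_nontrivial (hE.of_mono ι) h0
  have hu : CohB1.support F = Set.univ := Set.eq_univ_of_forall fun z =>
    (genericPoint_specializes z).mem_closed hcl hη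
  rw [hu, (IsHomeomorph.topologicalKrullDim_eq _ (Homeomorph.Set.univ X).isHomeomorph), hdim]
  rfl

theorem dim_support_le_zero (hdim : topologicalKrullDim X = 1) {Q : X.Modules} (hQ : Coh.IsCoh Q)
    (hη : Subsingleton (Q.presheaf.stalk (genericPoint X))) :
    topologicalKrullDim ↥(CohB1.support Q) ≤ ((0 : ℕ) : WithBot ℕ∞) := by
  have hcl := QCoh.isClosed_support_of_isFT hQ.1 (QCoh.isFT_of_isFP (QCoh.isCoh_iff_isFP.1 hQ))
  exact CurveDeg.topologicalKrullDim_le_zero_of_ne_univ hdim.le hcl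
    fun h => (h.symm ▸ Set.mem_univ (genericPoint X) : genericPoint X ∈ CohB1.support Q) hη

end pure

variable {k : Type u} [Field k] {X Y : Scheme.{u}} [X.Over (Spec (CommRingCat.of k))]
  [Y.Over (Spec (CommRingCat.of k))] [IsProper (X ↘ Spec (CommRingCat.of k))]
  [IsIntegral X] [IsLocallyNoetherian X] [IsIntegral Y] [IsLocallyNoetherian Y]
  (π : Y ⟶ X) [IsFinite π] {U₀ : X.Opens} (hU : Dense (U₀ : Set X))
  (hU' : Dense ((π ⁻¹ᵁ U₀ : Y.Opens) : Set Y)) [IsIso (π ∣_ U₀)]
  (hgen : π (genericPoint Y) = genericPoint X)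
  (hk : π ≫ (X ↘ Spec (CommRingCat.of k)) = Y ↘ Spec (CommRingCat.of k))
  {L : X.Modules}

include hk in
/-- Hilbert polynomials are unchanged by direct image. -/
theorem isHilbPoly_push_iff (hL : PicF.IsInvertible L) {F : Y.Modules} (hF : Coh.IsCoh F) (P : ℚ[X]) :
    ShStab.IsHilbPoly k Y ((Scheme.Modules.pullback π).obj L) F P ↔
      ShStab.IsHilbPoly k X L ((Scheme.Modules.pushforward π).obj F) P := by
  haveI : IsProper (Y ↘ Spec (CommRingCat.of k)) := hk ▸ inferInstance
  refine forall_congr' fun m => ?_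
  suffices h : Curv2.euler k Y (ShStab.twist Y ((Scheme.Modules.pullback π).obj L) F m) =
      Curv2.euler k X (ShStab.twist X L ((Scheme.Modules.pushforward π).obj F) m) by rw [h]
  obtain ⟨a⟩ := IntNum.pullback_tensorPow π L m
  have hLm := InvX.isInvertible_tensorPow hL m
  haveI := ExtShX.isIso_projMod π F (N := CohB1.tensorPow L m) (fun x =>
    let ⟨W, hx, he⟩ := InvEnd.isFinLocFreeOfRank_one hLm x; ⟨W, 1, hx, he⟩)
  have hq : Coh.IsQCoh (CohB1.tensorMod F ((Scheme.Modules.pullback π).obj (CohB1.tensorPow L m))) :=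
    KFlatLib.isQCoh_tensor hF.1 (QCoh.isQCoh_pullback π (CurveDeg.isCoh_of_isInvertible hLm).1)
  refine (CurveCohLib.euler_congr (k := k) (PicGrp.tensorModIso (Iso.refl F) a.symm)).trans ?_
  rw [← IntNum.euler_push k π hk hq]
  exact CurveCohLib.euler_congr (k := k) (asIso (KFlatLib.projMod π F (CohB1.tensorPow L m))).symm

include hgen in
theorem det_push {E : Y.Modules} (hE : TFQuot7.Det E) : TFQuot7.Det ((Scheme.Modules.pushforward π).obj E) := by
  intro W s h
  by_cases hne : (W : Set X).Nonempty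
  swap
  · exact CycLib.PushSheaf.eq_of_germs (M := (Scheme.Modules.pushforward π).obj E) (U := W) _ _
      fun z hz => absurd ⟨z, hz⟩ hne
  have hηW : genericPoint X ∈ W :=
    ((genericPoint_spec X).mem_open_set_iff W.2).2 (by rw [Set.univ_inter]; exact hne)
  have h0 := h _ hηW CurveBundle.isField_stalk_generic
  refine hE (π ⁻¹ᵁ W) s fun y hy hf => ?_
  obtain rfl := CurvFree7.eq_genericPoint hf
  have h1 := congrArg (NodeNorm7.proj π (genericPoint X) E hgen) h0
  refine ((CycLib.PushSheaf.stalkProj_germ π E (genericPoint X) hgen hηW s).symm.trans h1).trans ?_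
  exact map_zero _

include hU hU' in
/-- The map to the direct image of the generated submodule is an isomorphism at the generic point. -/
theorem generic_surjective {G : X.Modules} (hG : Coh.IsQCoh G) {F : Y.Modules} (hF : Coh.IsQCoh F)
    (p : (Scheme.Modules.pullback π).obj G ⟶ F) [Epi p] (hgen : π (genericPoint Y) = genericPoint X) :
    Function.Surjective (RefHull.stalkMapₗ
      ((Scheme.Modules.pullbackPushforwardAdjunction π).unit.app G ≫ (Scheme.Modules.pushforward π).map p)
      (genericPoint X)) := by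
  let P := Scheme.Modules.pushforward π
  let β := (Scheme.Modules.pullbackPushforwardAdjunction π).unit.app G ≫ P.map p
  let η := genericPoint X
  obtain ⟨V, hV, hηV⟩ := QCoh.exists_affine_mem η
  have hne : Nonempty (π ⁻¹ᵁ V : Y.Opens) := ⟨⟨genericPoint Y, show π _ ∈ V by rw [hgen]; exact hηV⟩⟩
  haveI := hne
  obtain ⟨t, ht, hden⟩ := NormPush7.exists_denom π hV hne hU hU'
  let G' := (Scheme.Modules.pullback π).obj G
  letI := NodePush7.appAlg π V
  letI := NodePush7.appMod π G' V
  letI := NodePush7.appMod π F V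
  letI := QCoh.stalkAlg (X := X) hηV
  letI := QCoh.stalkModule (P.obj F) hηV
  haveI := QCoh.isScalarTower_stalk (P.obj F) hηV
  haveI : IsScalarTower Γ(X, V) Γ(Y, π ⁻¹ᵁ V) Γ(G', π ⁻¹ᵁ V) := IsScalarTower.of_algebraMap_smul fun _ _ => rfl
  haveI := NodePush7.pushGerm_loc π hF hV hηV
  let gm := NodePush7.pushGerm π F V hηV
  obtain ⟨l, hl, hbc⟩ := ExistEasy.exists_pullSec_baseChange π hG (hV.preimage π) hV le_rfl
  have hβ : ∀ m, RefHull.stalkMapₗ β η (QCoh.germLin G hηV m) = gm (p.app (π ⁻¹ᵁ V) (l m)) := fun m => by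
    refine (RefHull.stalkMapₗ_germ _ η hηV m).trans ?_
    rw [hl]
    unfold QCoh.pullSec
    simp [gm, NodePush7.pushGerm, NodePush7.pushEquiv, QCoh.germLin]
    rfl
  have hall : ∀ (w : Γ(G', π ⁻¹ᵁ V)) (b : Γ(Y, π ⁻¹ᵁ V)), ∃ m, (π.app V t * b) • w = l m := by
    intro w
    refine IsBaseChange.inductionOn hbc w (fun w => ∀ b, ∃ m, (π.app V t * b) • w = l m)
      (fun b => ⟨0, by rw [smul_zero, map_zero]⟩) (fun m b => ?_) (fun c a ha b => ?_) (fun a c ha hc b => ?_)
    · obtain ⟨r, hr⟩ := hden b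
      refine ⟨r • m, ?_⟩
      rw [map_smul, ← hr]
      show π.app V r • l m = π.appLE V (π ⁻¹ᵁ V) le_rfl r • l m
      exact congrArg (fun b => b • l m) (congr($(Scheme.Hom.app_eq_appLE π (U := V)) r))
    · obtain ⟨m, hm⟩ := ha (b * c)
      exact ⟨m, by rw [← hm, smul_smul, mul_assoc]⟩
    · obtain ⟨m₁, h₁⟩ := ha b
      obtain ⟨m₂, h₂⟩ := hc b
      exact ⟨m₁ + m₂, by rw [map_add, smul_add, h₁, h₂]⟩
  letI := (CurveBundle.isField_stalk_generic (X := X)).toField
  have htη : X.presheaf.germ V η hηV t ≠ 0 := fun h => ht (by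
    rw [germ_injective_of_isIntegral X η hηV (h.trans (map_zero _).symm), map_zero])
  haveI : IsLocalization.AtPrime (X.presheaf.stalk η) (hV.primeIdealOf ⟨η, hηV⟩).asIdeal :=
    QCoh.isLocalization_stalk' hV hηV
  intro q
  obtain ⟨⟨m, s⟩, hm⟩ := IsLocalizedModule.surj (hV.primeIdealOf ⟨η, hηV⟩).asIdeal.primeCompl gm q
  obtain ⟨w, rfl⟩ := QCoh.app_surjective_of_epi (QCoh.isQCoh_pullback π hG) hF p (hV.preimage π) m
  obtain ⟨m', hm'⟩ := hall w 1
  rw [mul_one] at hm'
  obtain ⟨u, hu⟩ := (IsLocalization.map_units (X.presheaf.stalk η) s).exists_left_inv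
  have h1 : X.presheaf.germ V η hηV t • gm (p.app (π ⁻¹ᵁ V) w) =
      RefHull.stalkMapₗ β η (QCoh.germLin G hηV m') := by
    rw [hβ, ← hm', NormPush7.appY_smul]
    show t • gm (p.app (π ⁻¹ᵁ V) w) = _
    rw [← map_smul gm t]
    refine congrArg gm ?_
    show π.appLE V (π ⁻¹ᵁ V) le_rfl t • p.app (π ⁻¹ᵁ V) w = _
    rw [← Scheme.Hom.app_eq_appLE]
  refine ⟨(u * (X.presheaf.germ V η hηV t)⁻¹) • QCoh.germLin G hηV m', ?_⟩
  rw [map_smul, ← h1, smul_smul, mul_assoc, inv_mul_cancel₀ htη, mul_one, ← hm]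
  show u • ((s : Γ(X, V)) • q) = q
  rw [← algebraMap_smul (X.presheaf.stalk η) (s : Γ(X, V)) q, smul_smul, hu, one_smul]

include hU hU' hgen hk in
/-- A torsion free module is (semi)stable iff its direct image is. -/
theorem semistable_and_stable_iff (hdim : topologicalKrullDim X = 1) (hdimY : topologicalKrullDim Y = 1)
    (hL : CohB1.IsAmple L) {E : Y.Modules} (hE : Coh.IsCoh E) (htE : TorSh.IsTorsionFree E) :
    (ShStab.IsSemistable k Y ((Scheme.Modules.pullback π).obj L) E 1 ↔
        ShStab.IsSemistable k X L ((Scheme.Modules.pushforward π).obj E) 1) ∧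
    (ShStab.IsStable k Y ((Scheme.Modules.pullback π).obj L) E 1 ↔
        ShStab.IsStable k X L ((Scheme.Modules.pushforward π).obj E) 1) := by
  haveI : IsNoetherian X := CurveCohLib.isNoetherian_of_proper (k := k)
  haveI : IsProper (Y ↘ Spec (CommRingCat.of k)) := hk ▸ inferInstance
  haveI : IsNoetherian Y := CurveCohLib.isNoetherian_of_proper (k := k)
  let P := Scheme.Modules.pushforward π
  let adj := Scheme.Modules.pullbackPushforwardAdjunction π
  have hDE : TFQuot7.Det E := TFQuot7.det_of_tf hE.1 htE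
  have hDP := det_push π hgen hDE
  have hPE : Coh.IsCoh (P.obj E) := QCoh.isCoh_pushforward_finite π hE
  have hpE : ShStab.IsPure Y E 1 := isPure hdimY hDE
  have hpP : ShStab.IsPure X (P.obj E) 1 := isPure hdim hDP
  haveI : P.PreservesMonomorphisms := Functor.preservesMonomorphisms_of_adjunction adj
  have hnz : ∀ {F : Y.Modules}, Coh.IsQCoh F → IsZero (P.obj F) → IsZero F := fun hF h =>
    (IsZero.iff_id_eq_zero _).2 (NormPush7.map_injective π hF _ _ (h.eq_of_src _ _))
  have hreflect : ∀ {F : Y.Modules}, Coh.IsCoh F → TorSh.IsTorsionFree F → ∀ (i : F ⟶ E),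
      IsIso (P.map i) → IsIso i := fun {F} hF htF i hi => by
    obtain ⟨ψ, hψ⟩ := NormPush7.exists_hom π hU hU' hE.1 hF.1 htF (inv (P.map i))
    exact ⟨ψ, NormPush7.map_injective π hF.1 _ _ (by
        rw [Functor.map_comp, hψ, IsIso.hom_inv_id, CategoryTheory.Functor.map_id]),
      NormPush7.map_injective π hE.1 _ _ (by
        rw [Functor.map_comp, hψ, IsIso.inv_hom_id, CategoryTheory.Functor.map_id])⟩
  -- from the direct image to the module
  have down : ∀ (R : ℚ[X] → ℚ[X] → Prop), (∀ (G : X.Modules) (j : G ⟶ P.obj E),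
        Mono j → Coh.IsCoh G → ¬ IsZero G → ¬ IsIso j → ∀ pG pE, ShStab.IsHilbPoly k X L G pG →
        ShStab.IsHilbPoly k X L (P.obj E) pE → R pG pE) →
      ∀ (F : Y.Modules) (i : F ⟶ E), Mono i → Coh.IsCoh F → ¬ IsZero F → ¬ IsIso i → ∀ pF pE,
        ShStab.IsHilbPoly k Y ((Scheme.Modules.pullback π).obj L) F pF →
        ShStab.IsHilbPoly k Y ((Scheme.Modules.pullback π).obj L) E pE → R pF pE := by
    intro R h F i hi hF h0 hniso pF pE hpF hpE
    haveI := hi
    exact h (P.obj F) (P.map i) inferInstance (QCoh.isCoh_pushforward_finite π hF) (fun hz => h0 (hnz hF.1 hz))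
      (fun hiso => hniso (hreflect hF (TFQuot7.isTorsionFree_of_mono htE i) i hiso)) pF pE
      ((isHilbPoly_push_iff π hk hL.1 hF pF).1 hpF) ((isHilbPoly_push_iff π hk hL.1 hE pE).1 hpE)
  -- a submodule of the direct image inside the direct image of a submodule
  have up : ∀ (G : X.Modules) (j : G ⟶ P.obj E), Mono j → Coh.IsCoh G → ¬ IsZero G → ¬ IsIso j → ∀ pG pE,
      ShStab.IsHilbPoly k X L G pG → ShStab.IsHilbPoly k X L (P.obj E) pE →
      RedLT 1 pG pE ∨ ∃ (F : Y.Modules) (i : F ⟶ E) (pF : ℚ[X]), Mono i ∧ Coh.IsCoh F ∧ ¬ IsZero F ∧ ¬ IsIso i ∧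
        ShStab.IsHilbPoly k Y ((Scheme.Modules.pullback π).obj L) F pF ∧
        alpha 1 pG = alpha 1 pF ∧ PolyLE pG pF := by
    intro G j hj hG h0 hniso pG pE hpG hpE
    haveI := hj
    let a : (Scheme.Modules.pullback π).obj G ⟶ E := (Scheme.Modules.pullback π).map j ≫ adj.counit.app E
    let F := Abelian.image a
    let i : F ⟶ E := Abelian.image.ι a
    let p : (Scheme.Modules.pullback π).obj G ⟶ F := Abelian.factorThruImage a
    have hpG' : Coh.IsCoh ((Scheme.Modules.pullback π).obj G) := ZClosLib.isCoh_pullback π hG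
    have hF : Coh.IsCoh F := QCoh.isCoh_kernel hE (QCoh.isCoh_cokernel hpG'.1 hE a) _
    let b : G ⟶ P.obj F := adj.unit.app G ≫ P.map p
    have hbj : b ≫ P.map i = j := by
      show (adj.unit.app G ≫ P.map p) ≫ P.map i = j
      rw [Category.assoc, ← P.map_comp, show p ≫ i = a from Abelian.image.fac a, P.map_comp]
      exact (adj.unit_naturality_assoc j _).trans
        ((congrArg (j ≫ ·) (adj.right_triangle_components E)).trans (Category.comp_id j))
    haveI : Mono (b ≫ P.map i) := by rw [hbj]; exact hj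
    haveI : Mono b := mono_of_mono b (P.map i)
    have hPF : Coh.IsCoh (P.obj F) := QCoh.isCoh_pushforward_finite π hF
    have hPF0 : ¬ IsZero (P.obj F) := fun hz => h0 (IsZero.of_mono b hz)
    have hF0 : ¬ IsZero F := fun hz => hPF0 (P.map_isZero hz)
    have hdF := (hpP (P.obj F) (P.map i) inferInstance hPF hPF0).le
    obtain ⟨pF, hpF, -, -⟩ := exists_hilb (k := k) hL.1 hPF hdF
    obtain ⟨hQ, -, hpQ⟩ := cokernel_data hL hG hPF hdF b hpG hpF
    have hQη : Subsingleton ((cokernel b).presheaf.stalk (genericPoint X)) :=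
      (CycK.cokerEquiv b _).symm.subsingleton_congr.2 (Submodule.Quotient.subsingleton_iff.2
        (LinearMap.range_eq_top.2 (generic_surjective π hU hU' hG.1 hF.1 p hgen)))
    have hQ0 := dim_support_le_zero hdim hQ hQη
    have hα : alpha 1 pG = alpha 1 pF := by
      have h1 := (hilb_props hL.1 hQ hQ0 hpQ).1
      have h2 : (pF - pG).coeff 1 = 0 := Polynomial.coeff_eq_zero_of_natDegree_lt (by omega)
      rw [Polynomial.coeff_sub, sub_eq_zero] at h2
      simp only [alpha, h2]
    obtain ⟨N, hN⟩ := hilb_nonneg hL hQ hQ0 hpQ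
    have hle : PolyLE pG pF := ⟨N, fun m hm => by
      have := hN m hm
      rw [Polynomial.eval_zero, Polynomial.eval_sub] at this
      linarith⟩
    by_cases hi : IsIso i
    · left
      have hpE' : pE = pF := isHilbPoly_unique hpE (hilb_iso (asIso (P.map i)) hpF)
      subst hpE'
      have hnb : ¬ IsIso b := fun hb => hniso (by rw [← hbj]; infer_instance)
      have hQnz : ¬ IsZero (cokernel b) := fun hz => hnb (by
        haveI : Epi b := Abelian.epi_of_cokernel_π_eq_zero b (hz.eq_of_tgt _ _)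
        exact isIso_of_mono_of_epi b)
      obtain ⟨N, hN⟩ := hilb_eventually_pos hL hQ hQnz hQ0 hpQ
      have hpos : 0 < alpha 1 pG := alpha_pos hL hG (hpP G j inferInstance hG h0) hpG
      refine ⟨N, fun m hm => ?_⟩
      have := hN m hm
      rw [Polynomial.eval_sub] at this
      rw [Polynomial.eval_smul, Polynomial.eval_smul, smul_eq_mul, smul_eq_mul, ← hα]
      exact mul_lt_mul_of_pos_left (by linarith) hpos
    · exact Or.inr ⟨F, i, pF, inferInstance, hF, hF0, hi, (isHilbPoly_push_iff π hk hL.1 hF pF).2 hpF, hα, hle⟩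
  have hEE : ¬ IsZero E ↔ ¬ IsZero (P.obj E) := not_congr ⟨fun h => P.map_isZero h, hnz hE.1⟩
  constructor
  · constructor
    · rintro ⟨_, h0, _, hss⟩
      refine ⟨hPE, hEE.1 h0, hpP, fun G j hj hG hG0 hni pG pE hpG hpE => ?_⟩
      rcases up G j hj hG hG0 hni pG pE hpG hpE with h | ⟨F, i, pF, hi, hF, hF0, hiso, hpF, hα, hle⟩
      · obtain ⟨N, hN⟩ := h
        exact ⟨N, fun m hm => (hN m hm).le⟩
      · obtain ⟨N, hN⟩ := hss F i hi hF hF0 hiso pF pE hpF ((isHilbPoly_push_iff π hk hL.1 hE pE).2 hpE)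
        obtain ⟨N', hN'⟩ := hle
        refine ⟨max N N', fun m hm => ?_⟩
        have h1 := hN m (le_trans (le_max_left _ _) hm)
        have h2 := hN' m (le_trans (le_max_right _ _) hm)
        rw [Polynomial.eval_smul, Polynomial.eval_smul, smul_eq_mul, smul_eq_mul] at h1 ⊢
        rw [hα]
        exact (mul_le_mul_of_nonneg_left h2 (alpha_nonneg hL hPE (dim_le_of_isPure hpP hPE) hpE)).trans h1
    · rintro ⟨_, h0, _, hss⟩
      exact ⟨hE, hEE.2 h0, hpE, down (RedLE 1) hss⟩
  · constructor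
    · rintro ⟨_, h0, _, hss⟩
      refine ⟨hPE, hEE.1 h0, hpP, fun G j hj hG hG0 hni pG pE hpG hpE => ?_⟩
      rcases up G j hj hG hG0 hni pG pE hpG hpE with h | ⟨F, i, pF, hi, hF, hF0, hiso, hpF, hα, hle⟩
      · exact h
      · obtain ⟨N, hN⟩ := hss F i hi hF hF0 hiso pF pE hpF ((isHilbPoly_push_iff π hk hL.1 hE pE).2 hpE)
        obtain ⟨N', hN'⟩ := hle
        refine ⟨max N N', fun m hm => ?_⟩
        have h1 := hN m (le_trans (le_max_left _ _) hm)
        have h2 := hN' m (le_trans (le_max_right _ _) hm)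
        rw [Polynomial.eval_smul, Polynomial.eval_smul, smul_eq_mul, smul_eq_mul] at h1 ⊢
        rw [hα]
        exact lt_of_le_of_lt
          (mul_le_mul_of_nonneg_left h2 (alpha_nonneg hL hPE (dim_le_of_isPure hpP hPE) hpE)) h1
    · rintro ⟨_, h0, _, hss⟩
      exact ⟨hE, hEE.2 h0, hpE, down (RedLT 1) hss⟩

end Groth.Agent.StabPush7
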